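import Mathlib

/-!
# Scott's inequality for permutations with product one

If `x * y * z = 1` and every point is moved into `R` by `⟨x, y⟩`, the numbers of orbits of the three
permutations add up to at most `n + 2 * |R|`.
-/

set_option autoImplicit false

namespace CfsgLib.M23Gen

variable {α : Type*}

/-- The number of orbits of a permutation. -/
noncomputable def cyclesCount (σ : Equiv.Perm α) : ℕ :=
  Nat.card (MulAction.orbitRel.Quotient (Subgroup.zpowers σ) α)

/-- Composition with a permutation on the space of functions. -/
def compPerm (σ : Equiv.Perm α) : (α → ℚ) →ₗ[ℚ] (α → ℚ) := LinearMap.funLeft ℚ ℚ σ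

theorem compPerm_apply (σ : Equiv.Perm α) (v : α → ℚ) (a : α) : compPerm σ v a = v (σ a) := rfl

/-- One minus the composition. -/
def delta (σ : Equiv.Perm α) : (α → ℚ) →ₗ[ℚ] (α → ℚ) := LinearMap.id - compPerm σ

theorem delta_apply (σ : Equiv.Perm α) (v : α → ℚ) (a : α) : delta σ v a = v a - v (σ a) := rfl

variable [Fintype α]

/-- The fixed space is at least as large as the number of orbits. -/
theorem cyclesCount_le_finrank (σ : Equiv.Perm α) :
    cyclesCount σ + Module.finrank ℚ (LinearMap.range (delta σ)) ≤ Fintype.card α := by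
  classical
  let Q := MulAction.orbitRel.Quotient (Subgroup.zpowers σ) α
  letI : Fintype Q := Fintype.ofFinite Q
  let L : (Q → ℚ) →ₗ[ℚ] (α → ℚ) := LinearMap.funLeft ℚ ℚ (Quotient.mk _)
  have hL : Function.Injective L :=
    LinearMap.funLeft_injective_of_surjective ℚ ℚ _ Quotient.mk_surjective
  have hle : LinearMap.range L ≤ LinearMap.ker (delta σ) := by
    rintro _ ⟨w, rfl⟩
    rw [LinearMap.mem_ker]
    funext a
    have e : (Quotient.mk _ (σ a) : Q) = Quotient.mk _ a := Quotient.sound
      ⟨⟨σ, Subgroup.mem_zpowers σ⟩, rfl⟩
    simp [delta_apply, L, LinearMap.funLeft_apply, e]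
  have h1 := Submodule.finrank_mono hle
  rw [LinearMap.finrank_range_of_inj hL, Module.finrank_pi] at h1
  have h2 := LinearMap.finrank_range_add_finrank_ker (delta σ)
  rw [Module.finrank_pi] at h2
  change Nat.card Q + _ ≤ _
  rw [Nat.card_eq_fintype_card]
  omega

/-- Scott's inequality. -/
theorem scott (x y z : Equiv.Perm α) (h : x * y * z = 1) (R : Finset α)
    (hR : ∀ a, ∃ g ∈ Subgroup.closure ({x, y} : Set (Equiv.Perm α)), ∃ r ∈ R, g r = a) :
    cyclesCount x + cyclesCount y + cyclesCount z ≤ Fintype.card α + 2 * R.card := by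
  classical
  let A := LinearMap.range (delta x)
  let B := LinearMap.range (delta y)
  let D := LinearMap.range (delta z)
  let β : (α → ℚ) →ₗ[ℚ] A × B × D :=
    (delta x).rangeRestrict.prod (((delta y).rangeRestrict.comp (compPerm x)).prod
      ((delta z).rangeRestrict.comp ((compPerm y).comp (compPerm x))))
  let δ : A × B × D →ₗ[ℚ] (α → ℚ) := A.subtype.coprod (B.subtype.coprod D.subtype)
  have hzero : δ.comp β = 0 := by
    refine LinearMap.ext fun v => funext fun a => ?_
    have ha : x (y (z a)) = a := by
      have := congrArg (fun g : Equiv.Perm α => g a) h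
      simpa using this
    simp [β, δ, delta_apply, compPerm_apply, ha]
  -- the kernel of the first map
  have hker : Module.finrank ℚ (LinearMap.ker β) ≤ R.card := by
    let res : LinearMap.ker β →ₗ[ℚ] (R → ℚ) :=
      (LinearMap.funLeft ℚ ℚ (fun r : R => (r : α))).comp (LinearMap.ker β).subtype
    have hinj : Function.Injective res := by
      rw [← LinearMap.ker_eq_bot, LinearMap.ker_eq_bot']
      rintro ⟨v, hv⟩ hv0
      rw [LinearMap.mem_ker] at hv
      have hx : ∀ a, v (x a) = v a := fun a => by
        have := congrArg (fun p : A × B × D => (p.1 : α → ℚ) a) hv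
        simp [β, delta_apply] at this
        linarith
      have hy : ∀ a, v (y a) = v a := fun a => by
        have := congrArg (fun p : A × B × D => (p.2.1 : α → ℚ) a) hv
        simp [β, delta_apply, compPerm_apply, hx] at this
        linarith
      have hg : ∀ g ∈ Subgroup.closure ({x, y} : Set (Equiv.Perm α)), ∀ a, v (g a) = v a := by
        intro g hg
        induction hg using Subgroup.closure_induction with
        | mem g hg => rcases hg with rfl | rfl <;> assumption
        | one => simp
        | mul g g' _ _ ih ih' => intro a; rw [Equiv.Perm.mul_apply, ih, ih']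
        | inv g _ ih => intro a; conv_rhs => rw [← Equiv.apply_symm_apply g a, ih]
                        rfl
      refine Subtype.ext (funext fun a => ?_)
      obtain ⟨g, hgm, r, hr, rfl⟩ := hR a
      show v (g r) = 0
      rw [hg g hgm r]
      exact congrFun hv0 ⟨r, hr⟩
    have := LinearMap.finrank_le_finrank_of_injective hinj
    rwa [Module.finrank_pi, Fintype.card_coe] at this
  -- the range of the second map
  have hdiff : ∀ g ∈ Subgroup.closure ({x, y} : Set (Equiv.Perm α)), ∀ v : α → ℚ,
      delta g v ∈ LinearMap.range δ := by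
    intro g hg
    induction hg using Subgroup.closure_induction with
    | mem g hg =>
      intro v
      rcases hg with rfl | rfl
      · exact ⟨(⟨_, LinearMap.mem_range_self _ v⟩, 0, 0), by simp [δ]⟩
      · exact ⟨(0, ⟨_, LinearMap.mem_range_self _ v⟩, 0), by simp [δ]⟩
    | one => intro v; convert Submodule.zero_mem (LinearMap.range δ); funext a; simp [delta_apply]
    | mul g g' _ _ ih ih' =>
      intro v
      convert add_mem (ih v) (ih' (compPerm g v)) using 1
      funext a; simp [delta_apply, compPerm_apply]
    | inv g _ ih =>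
      intro v
      convert neg_mem (ih (compPerm g⁻¹ v)) using 1
      funext a; simp [delta_apply, compPerm_apply]
  have hrange : Fintype.card α ≤ Module.finrank ℚ (LinearMap.range δ) + R.card := by
    let U := Submodule.span ℚ ((R.image fun r => Pi.single r (1 : ℚ) : Finset (α → ℚ)) : Set (α → ℚ))
    have htop : LinearMap.range δ ⊔ U = ⊤ := by
      rw [eq_top_iff, ← (Pi.basisFun ℚ α).span_eq, Submodule.span_le]
      rintro _ ⟨a, rfl⟩
      obtain ⟨g, hg, r, hr, rfl⟩ := hR a
      have e : Pi.basisFun ℚ α (g r) = delta g (Pi.single (g r) (1 : ℚ)) + Pi.single r 1 := by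
        funext b
        simp [delta_apply, Pi.single_apply, g.injective.eq_iff]
      rw [SetLike.mem_coe, e]
      exact add_mem (Submodule.mem_sup_left (hdiff g hg _))
        (Submodule.mem_sup_right (Submodule.subset_span (by
          rw [Finset.coe_image]; exact ⟨r, hr, rfl⟩)))
    have h1 := Submodule.finrank_add_le_finrank_add_finrank (LinearMap.range δ) U
    rw [htop, finrank_top, Module.finrank_pi] at h1
    have h2 : Module.finrank ℚ U ≤ R.card :=
      (finrank_span_finset_le_card _).trans Finset.card_image_le
    omega
  have h1 := LinearMap.finrank_range_add_finrank_ker β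
  have h2 := LinearMap.finrank_range_add_finrank_ker δ
  have h3 := Submodule.finrank_mono (LinearMap.range_le_ker_iff.2 hzero)
  rw [Module.finrank_pi] at h1
  rw [Module.finrank_prod, Module.finrank_prod] at h2
  have hA : cyclesCount x + Module.finrank ℚ A ≤ Fintype.card α := cyclesCount_le_finrank x
  have hB : cyclesCount y + Module.finrank ℚ B ≤ Fintype.card α := cyclesCount_le_finrank y
  have hD : cyclesCount z + Module.finrank ℚ D ≤ Fintype.card α := cyclesCount_le_finrank z
  omega

/-- Orbits of a permutation of prime order with at least `f` fixed points. -/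
theorem le_mul_cyclesCount [DecidableEq α] (σ : Equiv.Perm α) {p : ℕ} (hp : p.Prime)
    (ho : orderOf σ = p) {f : ℕ} (hf : f ≤ (Finset.univ.filter fun a => σ a = a).card) :
    Fintype.card α + (p - 1) * f ≤ p * cyclesCount σ := by
  classical
  letI : Fintype (Subgroup.zpowers σ) := Fintype.ofFinite _
  letI : Fintype (MulAction.orbitRel.Quotient (Subgroup.zpowers σ) α) := Fintype.ofFinite _
  have hb := MulAction.sum_card_fixedBy_eq_card_orbits_mul_card_group (Subgroup.zpowers σ) α
  have hc : Fintype.card (Subgroup.zpowers σ) = p := by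
    rw [← Nat.card_eq_fintype_card, Nat.card_zpowers, ho]
  rw [hc] at hb
  rw [cyclesCount, Nat.card_eq_fintype_card, mul_comm p, ← hb, ← Finset.add_sum_erase _ _
    (Finset.mem_univ (1 : Subgroup.zpowers σ))]
  refine add_le_add ?_ ?_
  · refine le_of_eq (Eq.symm ?_)
    simp [MulAction.fixedBy]
  · calc (p - 1) * f = ∑ _g ∈ (Finset.univ.erase (1 : Subgroup.zpowers σ)), f := by
          rw [Finset.sum_const, Finset.card_erase_of_mem (Finset.mem_univ _), Finset.card_univ, hc,
            smul_eq_mul]
      _ ≤ _ := by
          refine Finset.sum_le_sum fun g _ => hf.trans ?_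
          rw [← Set.toFinset_card]
          refine Finset.card_le_card fun a ha => ?_
          rw [Finset.mem_filter] at ha
          rw [Set.mem_toFinset, MulAction.mem_fixedBy]
          obtain ⟨k, hk⟩ := Subgroup.mem_zpowers_iff.1 g.2
          show (g : Equiv.Perm α) a = a
          rw [← hk]
          exact Function.IsFixedPt.perm_zpow ha.2 k

/-- The number of fixed points of an element of prime order. -/
theorem card_fixed_mod [DecidableEq α] (σ : Equiv.Perm α) {p : ℕ} (hp : p.Prime) (ho : orderOf σ = p) :
    (Finset.univ.filter fun a => σ a = a).card % p = Fintype.card α % p := by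
  classical
  haveI : Fact p.Prime := ⟨hp⟩
  have hP : IsPGroup p (Subgroup.zpowers σ) := IsPGroup.of_card (n := 1) (by
    rw [Nat.card_zpowers, ho, pow_one])
  have h := hP.card_modEq_card_fixedPoints (α := α)
  rw [Nat.card_eq_fintype_card, Nat.card_eq_fintype_card] at h
  rw [Nat.ModEq] at h
  rw [h]
  congr 1
  rw [← Fintype.card_coe]
  refine Fintype.card_congr (Equiv.subtypeEquivRight fun a => ?_)
  rw [Finset.mem_filter]
  constructor
  · intro ha g
    obtain ⟨k, hk⟩ := Subgroup.mem_zpowers_iff.1 g.2
    show (g : Equiv.Perm α) a = a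
    rw [← hk]
    exact Function.IsFixedPt.perm_zpow ha.2 k
  · exact fun ha => ⟨Finset.mem_univ _, ha ⟨σ, Subgroup.mem_zpowers σ⟩⟩

end CfsgLib.M23Gen
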