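import Cfsg.Agent.M23Gen.Data
import Cfsg.Agent.M23Gen.Scott
import Cfsg.Agent.M24Classes.Classes
import Cfsg.Agent.Mathieu.SmallOrders

/-!
# Generating triples of prime orders in the Mathieu group on 23 points
-/

set_option autoImplicit false

namespace CfsgLib.M23Gen

open Cfsg CfsgLib.Mathieu CfsgLib.M24Classes

/-- The table of the identity. -/
def idTab : ℕ := pack id 24

theorem idTab_rep : Rep enc (1 : Equiv.Perm GolayPt) idTab := fun p => by
  rw [idTab, app_pack id 24 (fun i hi => by simp; omega) _ (enc p).isLt]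
  rfl

/-- The table of a word. -/
def evalW (gs : List ℕ) : List ℕ → ℕ
  | [] => idTab
  | k :: w => comp (gs.getD k idTab) (evalW gs w)

/-- Powers of a table. -/
def powTab (t : ℕ) : ℕ → ℕ
  | 0 => idTab
  | k + 1 => comp (powTab t k) t

theorem powTab_rep {σ : Equiv.Perm GolayPt} {t : ℕ} (h : Rep enc σ t) :
    ∀ k, Rep enc (σ ^ k) (powTab t k)
  | 0 => by rw [pow_zero]; exact idTab_rep
  | k + 1 => by rw [pow_succ]; exact rep_comp (powTab_rep h k) h

theorem evalW_inGroup {H : Subgroup (Equiv.Perm GolayPt)} {gs : List ℕ}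
    (hgs : ∀ t ∈ gs, InGroup enc H t) : ∀ w, InGroup enc H (evalW gs w)
  | [] => ⟨1, one_mem H, idTab_rep⟩
  | k :: w => by
    obtain ⟨τ, hτ, hr⟩ := evalW_inGroup hgs w
    have hk : InGroup enc H (gs.getD k idTab) := by
      rw [List.getD_eq_getElem?_getD]
      cases hg : gs[k]? with
      | none => exact ⟨1, one_mem H, idTab_rep⟩
      | some t => exact hgs t (List.mem_of_getElem? hg)
    obtain ⟨σ, hσ, hs⟩ := hk
    exact ⟨σ * τ, mul_mem hσ hτ, rep_comp hs hr⟩

/-- The strong generators, the one moving the extra point replaced by the identity. -/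
def fixGens : List ℕ := idTab :: strongWords.map (evalW [genA, genB])

theorem fix_reaches : ∀ k ∈ [1, 2, 3, 4], ∀ q, q ∉ m24Base.take k →
    (orbitPts fixGens ((m24Base.take k).map fun x => (enc x).val) [(enc (m24Base.getD k none)).val]
      (m24Trees.getD k [])).contains (enc q).val = true := by decide +kernel

theorem fix_reaches_five : ∀ q ∈ setOf24 m24BaseRest,
    (orbitPts fixGens ((m24Base.take 5).map fun x => (enc x).val) [(enc (m24Base.getD 5 none)).val]
      (m24Trees.getD 5 [])).contains (enc q).val = true := by decide +kernel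

theorem fix_reaches_six : ∀ q ∈ (setOf24 m24BaseOctad)ᶜ,
    (orbitPts fixGens ((m24Base.take 6).map fun x => (enc x).val) [(enc (m24Base.getD 6 none)).val]
      (m24Trees.getD 6 [])).contains (enc q).val = true := by decide +kernel

/-- A subgroup of `M23` containing the two standard generators is everything. -/
theorem eq_M23 {H : Subgroup (Equiv.Perm GolayPt)} (hle : H ≤ Spor.M23)
    (ha : InGroup enc H genA) (hb : InGroup enc H genB) : H = Spor.M23 := by
  have hgens : ∀ t ∈ fixGens, InGroup enc H t := by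
    intro t ht
    rcases List.mem_cons.1 ht with rfl | ht
    · exact ⟨1, one_mem H, idTab_rep⟩
    · obtain ⟨w, -, rfl⟩ := List.mem_map.1 ht
      exact evalW_inGroup (by
        intro t ht
        simp only [List.mem_cons, List.not_mem_nil, or_false] at ht
        rcases ht with rfl | rfl <;> assumption) w
  obtain ⟨-, -, -, u1, -, u2, -, u3, -, u4, -, u5, -, u6, last⟩ := m24_chain
  have low : ∀ k ∈ [1, 2, 3, 4], ∀ q ∈ Finset.univ.filter (fun q => q ∉ m24Base.take k),
      Reach H (m24Base.take k) (m24Base.getD k none) q := fun k hk q hq =>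
    reach_of_tree enc hgens _ _ _ _ (fix_reaches k hk q (Finset.mem_filter.1 hq).2)
  have hchain : IsChain' H M24 (m24Levels.drop 1) [pt 23] :=
    ⟨low 1 (by simp), u1, low 2 (by simp), u2, low 3 (by simp), u3, low 4 (by simp), u4,
      fun q hq => reach_of_tree enc hgens _ _ _ _ (fix_reaches_five q hq), u5,
      fun q hq => reach_of_tree enc hgens _ _ _ _ (fix_reaches_six q hq), u6, last⟩
  refine le_antisymm hle ?_
  rw [SporM23_eq]
  exact (hchain.spec (hle.trans SporM23_le) _ _).1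

/-- The check of a witness. -/
def checkW (c : Witness) : Bool :=
  let ok (t n : ℕ) : Bool := (powTab t n == idTab) && !(allBelow 24 fun i => app t i == i)
  isM24Tab c.x && isM24Tab c.y && app c.x 23 == 23 && app c.y 23 == 23 &&
    ok c.x c.p && ok c.y c.q && ok (comp c.x c.y) c.r &&
      evalW [c.x, c.y] c.wa == genA && evalW [c.x, c.y] c.wb == genB

theorem witnesses_ok : witnesses.all checkW = true := by decide +kernel

theorem witnesses_complete : ∀ p ∈ [2, 3, 5, 7, 11, 23], ∀ q ∈ [2, 3, 5, 7, 11, 23],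
    ∀ r ∈ [2, 3, 5, 7, 11, 23], p ≤ q → q ≤ r → ¬(p = 2 ∧ q = 2) →
      ¬((p = 2 ∧ q = 3) ∨ (p = 2 ∧ q = 5 ∧ r = 5) ∨ (p = 2 ∧ q = 5 ∧ r = 7) ∨
        (p = 3 ∧ q = 3 ∧ r ≤ 7)) →
      (witnesses.any fun c => c.p == p && c.q == q && c.r == r) = true := by
  decide +kernel

/-- The witnesses generate. -/
theorem exists_triple (c : Witness) (hc : c ∈ witnesses) (hp : c.p.Prime) (hq : c.q.Prime)
    (hr : c.r.Prime) :
    ∃ x y z : Spor.M23, orderOf x = c.p ∧ orderOf y = c.q ∧ orderOf z = c.r ∧ x * y * z = 1 ∧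
      Subgroup.closure {x, y} = ⊤ := by
  have h := List.all_eq_true.1 witnesses_ok c hc
  simp only [checkW, Bool.and_eq_true, beq_iff_eq, Bool.not_eq_true'] at h
  obtain ⟨⟨⟨⟨⟨⟨⟨⟨hx, hy⟩, hx23⟩, hy23⟩, hxp, hx1⟩, hyq, hy1⟩, hzr, hz1⟩, hwa⟩, hwb⟩ := h
  obtain ⟨σ, hσ, rσ⟩ := inGroup_of_isM24Tab hx
  obtain ⟨τ, hτ, rτ⟩ := inGroup_of_isM24Tab hy
  have fixNone : ∀ {π : Equiv.Perm GolayPt} {t : ℕ}, Rep enc π t → app t 23 = 23 → π none = none :=
    fun h e => h.apply_eq enc (x := none) (y := none) e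
  have hσ' : σ ∈ Spor.M23 := ⟨hσ, fixNone rσ hx23⟩
  have hτ' : τ ∈ Spor.M23 := ⟨hτ, fixNone rτ hy23⟩
  have hord : ∀ {π : Equiv.Perm GolayPt} {t n : ℕ}, Rep enc π t → n.Prime →
      powTab t n = idTab → (allBelow 24 fun i => app t i == i) = false → orderOf π = n := by
    intro π t n hπ hn hpow hne
    haveI : Fact n.Prime := ⟨hn⟩
    refine orderOf_eq_prime (rep_unique (hpow ▸ powTab_rep hπ n) idTab_rep) fun e => ?_
    refine Bool.false_ne_true (hne.symm.trans (allBelow_iff.2 fun i hi => ?_))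
    have h1 := hπ (pt i)
    rw [e] at h1
    simpa [enc, idx_pt hi] using h1
  refine ⟨⟨σ, hσ'⟩, ⟨τ, hτ'⟩, (⟨σ, hσ'⟩ * ⟨τ, hτ'⟩)⁻¹, ?_, ?_, ?_, mul_inv_cancel _, ?_⟩
  · rw [← Subgroup.orderOf_coe]; exact hord rσ hp hxp hx1
  · rw [← Subgroup.orderOf_coe]; exact hord rτ hq hyq hy1
  · rw [orderOf_inv, ← Subgroup.orderOf_coe]
    exact hord (rep_comp rσ rτ) hr hzr hz1
  · have hgs : ∀ t ∈ [c.x, c.y], InGroup enc (Subgroup.closure {σ, τ}) t := by
      intro t ht
      simp only [List.mem_cons, List.not_mem_nil, or_false] at ht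
      rcases ht with rfl | rfl
      exacts [⟨σ, Subgroup.subset_closure (by simp), rσ⟩, ⟨τ, Subgroup.subset_closure (by simp), rτ⟩]
    have hle : Subgroup.closure {σ, τ} ≤ Spor.M23 := by
      rw [Subgroup.closure_le]
      rintro g (rfl | rfl) <;> assumption
    have h := eq_M23 hle (hwa ▸ evalW_inGroup hgs c.wa) (hwb ▸ evalW_inGroup hgs c.wb)
    apply Subgroup.map_injective Spor.M23.subtype_injective
    rw [MonoidHom.map_closure, ← MonoidHom.range_eq_map, Subgroup.range_subtype]
    simpa [Set.image_insert_eq] using h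


/-- Lower bounds for the numbers of orbits. -/
theorem cycles_bounds {g : Equiv.Perm GolayPt} (hg : g ∈ Spor.M23) {p : ℕ} (hp : p.Prime)
    (ho : orderOf g = p) :
    2 ≤ cyclesCount g ∧ (p = 2 → 16 ≤ cyclesCount g) ∧ (p = 3 → 12 ≤ cyclesCount g) ∧
      (p = 5 → 8 ≤ cyclesCount g) ∧ (p = 7 → 6 ≤ cyclesCount g) := by
  have hnone : g none = none := hg.2
  have hcard : Fintype.card GolayPt = 24 := by simp [GolayPt]
  have hpos : 1 ≤ fixCount g := Finset.card_pos.2 ⟨none, by simp [hnone]⟩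
  have hle : fixCount g ≤ 24 := hcard ▸ Finset.card_le_univ _
  have hmod := card_fixed_mod g hp ho
  rw [hcard] at hmod
  have key : ∀ f, f ≤ fixCount g → 24 + (p - 1) * f ≤ p * cyclesCount g := fun f hf => by
    have := le_mul_cyclesCount g hp ho hf
    rwa [hcard] at this
  refine ⟨?_, ?_, ?_, ?_, ?_⟩
  · by_contra h
    have h1 := key 1 hpos
    have hc : cyclesCount g ≤ 1 := by omega
    have h2 : p * cyclesCount g ≤ p := by nlinarith
    omega
  · rintro rfl
    rcases conj_inv2_of_fix hg.1 ho with ⟨h, -⟩ | ⟨h, -⟩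
    · omega
    · have := key 8 (by omega); omega
  · rintro rfl
    rcases conj_ord3_of_fix hg.1 ho with ⟨h, -⟩ | ⟨h, -⟩
    · omega
    · have := key 6 (by omega); omega
  · rintro rfl
    change fixCount g % 5 = 24 % 5 at hmod
    have := key 4 (by omega); omega
  · rintro rfl
    change fixCount g % 7 = 24 % 7 at hmod
    have := key 3 (by omega); omega

/-- The excluded triples do not generate. -/
theorem not_generate {p q r : ℕ} (hp : p.Prime) (hq : q.Prime) (hr : r.Prime) (hqr : q ≤ r)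
    (x y z : Spor.M23) (hx : orderOf x = p) (hy : orderOf y = q) (hz : orderOf z = r)
    (hxyz : x * y * z = 1) (hgen : Subgroup.closure {x, y} = ⊤)
    (h : (p = 2 ∧ q = 3) ∨ (p = 2 ∧ q = 5 ∧ r = 5) ∨ (p = 2 ∧ q = 5 ∧ r = 7) ∨
      (p = 3 ∧ q = 3 ∧ r ≤ 7)) : False := by
  rw [← Subgroup.orderOf_coe] at hx hy hz
  have bx := cycles_bounds x.2 hp hx
  have byy := cycles_bounds y.2 hq hy
  have bz := cycles_bounds z.2 hr hz
  have hR : ∀ a : GolayPt, ∃ g ∈ Subgroup.closure ({(x : Equiv.Perm GolayPt), (y : Equiv.Perm GolayPt)} : Set _),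
      ∃ r ∈ ({none, some 0} : Finset GolayPt), g r = a := by
    intro a
    rcases eq_or_ne a none with rfl | ha
    · exact ⟨1, one_mem _, none, by simp, rfl⟩
    have hmapped : Subgroup.closure ({(x : Equiv.Perm GolayPt), (y : Equiv.Perm GolayPt)} : Set _)
        = Spor.M23 := by
      have := congrArg (Subgroup.map Spor.M23.subtype) hgen
      rw [MonoidHom.map_closure, ← MonoidHom.range_eq_map, Subgroup.range_subtype] at this
      simpa [Set.image_insert_eq] using this
    obtain ⟨g, hg, hg'⟩ : Reach M24 (m24Base.take 1) (m24Base.getD 1 none) a := by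
      have h1 := (show ∀ a : GolayPt, a ≠ none → m24Reaches 1 a = true from by decide +kernel) a ha
      rw [← m24Gen_eq]
      exact m24_reach 1 a h1
    have hg23 : g ∈ Spor.M23 := ⟨hg, hg'.1 none (by decide +kernel)⟩
    refine ⟨g, by rw [hmapped]; exact hg23, some 0, by simp, ?_⟩
    · have e : m24Base.getD 1 none = some 0 := by decide +kernel
      rw [← e]; exact hg'.2
  have hs := scott (x : Equiv.Perm GolayPt) (y : Equiv.Perm GolayPt) (z : Equiv.Perm GolayPt)
    (by rw [← Subgroup.coe_mul, ← Subgroup.coe_mul, hxyz, Subgroup.coe_one]) _ hR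
  have hR2 : ({none, some 0} : Finset GolayPt).card = 2 := by decide +kernel
  have hcard : Fintype.card GolayPt = 24 := by simp [GolayPt]
  rw [hR2, hcard] at hs
  rcases h with ⟨rfl, rfl⟩ | ⟨rfl, rfl, rfl⟩ | ⟨rfl, rfl, rfl⟩ | ⟨rfl, rfl, hr7⟩
  · have := bx.2.1 rfl; have := byy.2.2.1 rfl; have := bz.1; omega
  · have := bx.2.1 rfl; have := byy.2.2.2.1 rfl; have := bz.2.2.2.1 rfl; omega
  · have := bx.2.1 rfl; have := byy.2.2.2.1 rfl; have := bz.2.2.2.2 rfl; omega
  · have := bx.2.2.1 rfl; have := byy.2.2.1 rfl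
    interval_cases r
    · have := bz.2.2.1 rfl; omega
    · norm_num at hr
    · have := bz.2.2.2.1 rfl; omega
    · norm_num at hr
    · have := bz.2.2.2.2 rfl; omega


end CfsgLib.M23Gen
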